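import Groth.Prelude.Def_BigSite
import Mathlib.CategoryTheory.Sites.LocallyBijective
import Mathlib.CategoryTheory.Sites.Limits
import Mathlib.CategoryTheory.Limits.Types.Colimits

/-!
# Almost cocontinuous functors
-/

set_option autoImplicit false
set_option linter.style.haveILetI false
set_option linter.unusedSectionVars false
set_option backward.isDefEq.respectTransparency false
universe w v v' u u'

open CategoryTheory CategoryTheory.Limits Opposite

namespace AlmostCocontLib

variable {C : Type u} [Category.{v} C] {D : Type u'} [Category.{v'} D]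
  {J : GrothendieckTopology C} {K : GrothendieckTopology D}

theorem unique_of_bot_mem {F : Dᵒᵖ ⥤ Type w} (hF : Presieve.IsSheaf K F) {V : D} (hV : (⊥ : Sieve V) ∈ K V) :
    Nonempty (Unique (F.obj (op V))) := by
  let x : Presieve.FamilyOfElements F (⊥ : Sieve V).arrows := fun _ _ h => h.elim
  obtain ⟨t, -, ht⟩ := hF _ hV x (fun _ _ _ _ _ _ _ h => h.elim)
  exact ⟨⟨⟨t⟩, fun a => ht a (fun _ _ h => h.elim)⟩⟩

variable (u : C ⥤ D) (hu : BigSite.IsAlmostCocontinuous u J K)
  [HasWeakSheafify K (Type w)] [K.WEqualsLocallyBijective (Type w)] [J.WEqualsLocallyBijective (Type w)]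

include hu in
/-- Restricted sheafification is a local isomorphism. -/
theorem W_whiskerLeft_toSheafify (G : Dᵒᵖ ⥤ Type w)
    (hG : ∀ V : D, (⊥ : Sieve V) ∈ K V → Nonempty (Unique (G.obj (op V)))) :
    J.W (Functor.whiskerLeft u.op (toSheafify K G)) := by
  haveI : Presheaf.IsLocallyInjective J (Functor.whiskerLeft u.op (toSheafify K G)) := ⟨fun {X} x y h => by
    obtain ⟨R', hR', hR⟩ := hu X.unop _ (Presheaf.equalizerSieve_mem K (toSheafify K G) (X := u.op.obj X) x y h)
    refine J.superset_covering ?_ hR'
    intro V g hg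
    rcases hR g hg with hbot | he
    · obtain ⟨hq⟩ := hG _ hbot
      exact (hq.uniq _).trans (hq.uniq _).symm
    · exact he⟩
  haveI : Presheaf.IsLocallySurjective J (Functor.whiskerLeft u.op (toSheafify K G)) := ⟨fun {U} s => by
    obtain ⟨R', hR', hR⟩ := hu U _ (Presheaf.imageSieve_mem K (toSheafify K G) (U := op (u.obj U)) s)
    refine J.superset_covering ?_ hR'
    intro V g hg
    rcases hR g hg with hbot | he
    · obtain ⟨hq⟩ := hG _ hbot
      obtain ⟨hq'⟩ := unique_of_bot_mem ((isSheaf_iff_isSheaf_of_type _ _).1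
        ((presheafToSheaf K (Type w)).obj G).property) hbot
      exact ⟨hq.default, (hq'.uniq _).trans (hq'.uniq _).symm⟩
    · exact he⟩
  exact J.W_of_isLocallyBijective _

include hu in
theorem preservesColimitsOfShape [u.IsContinuous J K] (I : Type*) [Category I] [IsConnected I]
    [HasColimitsOfShape I (Type w)] :
    PreservesColimitsOfShape I (u.sheafPushforwardContinuous (Type w) J K) := by
  refine ⟨fun {F} => ?_⟩
  let E := colimit.cocone (F ⋙ sheafToPresheaf K (Type w))
  have hE := colimit.isColimit (F ⋙ sheafToPresheaf K (Type w))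
  refine preservesColimit_of_preserves_colimit_cocone (Sheaf.isColimitSheafifyCocone E hE) ?_
  have hG : ∀ V : D, (⊥ : Sieve V) ∈ K V → Nonempty (Unique (E.pt.obj (op V))) := fun V hV => by
    have hc := isColimitOfPreserves ((evaluation Dᵒᵖ (Type w)).obj (op V)) hE
    have hobj : ∀ i, Nonempty (Unique ((F.obj i).obj.obj (op V))) := fun i =>
      unique_of_bot_mem ((isSheaf_iff_isSheaf_of_type _ _).1 (F.obj i).property) hV
    obtain ⟨i₀⟩ := (inferInstance : Nonempty I)
    obtain ⟨h₀⟩ := hobj i₀
    refine ⟨⟨⟨(E.ι.app i₀).app (op V) h₀.default⟩, fun a => ?_⟩⟩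
    obtain ⟨i, b, rfl⟩ := Types.jointly_surjective _ hc a
    have key : ∀ (i j : I), Zigzag i j → ∀ (b : (F.obj i).obj.obj (op V)) (c : (F.obj j).obj.obj (op V)),
        (E.ι.app i).app (op V) b = (E.ι.app j).app (op V) c := fun i j hij => by
      have e1 : ∀ (i j : I) (φ : i ⟶ j) (b : (F.obj i).obj.obj (op V)) (c : (F.obj j).obj.obj (op V)),
          (E.ι.app i).app (op V) b = (E.ι.app j).app (op V) c := fun i j φ b c => by
        obtain ⟨hj⟩ := hobj j
        have h1 := ConcreteCategory.congr_hom (NatTrans.congr_app (E.w φ) (op V)) b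
        refine h1.symm.trans (congrArg ((E.ι.app j).app (op V)) ?_)
        exact (hj.uniq _).trans (hj.uniq _).symm
      induction hij with
      | refl =>
        intro b c
        obtain ⟨hi⟩ := hobj i
        rw [(hi.uniq b).trans (hi.uniq c).symm]
      | @tail j k _ hz ih =>
        intro b c
        obtain ⟨hj⟩ := hobj j
        rcases hz with ⟨⟨φ⟩⟩ | ⟨⟨φ⟩⟩
        · exact (ih b hj.default).trans (e1 j k φ _ c)
        · exact (ih b hj.default).trans (e1 k j φ c _).symm
    exact key i i₀ (isPreconnected_zigzag i i₀) b h₀.default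
  have hW := W_whiskerLeft_toSheafify u hu E.pt hG
  let Φ := u.sheafPushforwardContinuous (Type w) J K
  have hcu := isColimitOfPreserves ((Functor.whiskeringLeft _ _ (Type w)).obj u.op) hE
  let dsc : ∀ s : Cocone (F ⋙ Φ), u.op ⋙ E.pt ⟶ s.pt.obj := fun s => hcu.desc ((sheafToPresheaf _ _).mapCocone s)
  exact
    { desc := fun s => ⟨((hW _ s.pt.property).2 (dsc s)).choose⟩
      fac := fun s i => by
        ext1
        have h1 := ((hW _ s.pt.property).2 (dsc s)).choose_spec
        show Functor.whiskerLeft u.op ((Sheaf.sheafifyCocone E).ι.app i).hom ≫ _ = _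
        rw [Sheaf.sheafifyCocone_ι_app_val, Functor.whiskerLeft_comp, Category.assoc]
        refine (congrArg (Functor.whiskerLeft u.op (E.ι.app i) ≫ ·) h1).trans ?_
        exact hcu.fac ((sheafToPresheaf _ _).mapCocone s) i
      uniq := fun s m hm => by
        ext1
        refine (hW _ s.pt.property).1 ?_
        refine Eq.trans ?_ ((hW _ s.pt.property).2 (dsc s)).choose_spec.symm
        refine hcu.uniq ((sheafToPresheaf _ _).mapCocone s) _ fun i => ?_
        refine Eq.trans ?_ (congrArg (fun q => q.hom) (hm i))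
        show Functor.whiskerLeft u.op (E.ι.app i) ≫ _ ≫ m.hom =
          Functor.whiskerLeft u.op ((Sheaf.sheafifyCocone E).ι.app i).hom ≫ m.hom
        rw [Sheaf.sheafifyCocone_ι_app_val, Functor.whiskerLeft_comp, Category.assoc] }

include hu in
/-- Sheafification commutes with restriction along an almost cocontinuous functor. -/
theorem isIso_homEquiv_symm [u.IsContinuous J K] [HasWeakSheafify J (Type w)] (G : Dᵒᵖ ⥤ Type w)
    (hG : ∀ V : D, (⊥ : Sieve V) ∈ K V → Nonempty (Unique (G.obj (op V)))) :
    IsIso (((sheafificationAdjunction J (Type w)).homEquiv (u.op ⋙ G)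
      ((u.sheafPushforwardContinuous (Type w) J K).obj ((presheafToSheaf K (Type w)).obj G))).symm
        (Functor.whiskerLeft u.op (toSheafify K G))) := by
  have hW := W_whiskerLeft_toSheafify u hu G hG
  rw [Adjunction.homEquiv_counit]
  haveI : IsIso ((presheafToSheaf J (Type w)).map (Functor.whiskerLeft u.op (toSheafify K G))) :=
    (J.W_iff _).1 hW
  infer_instance

end AlmostCocontLib
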